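import Cfsg.Agent.CosetCert.Pack

/-! Generated: facts of the log. -/

set_option autoImplicit false
set_option maxRecDepth 100000

namespace Cfsg.Agent.HeRecog.M8a.SS2ColW

open Cfsg.Agent.CosetCert

def factStore : Store := (.leaf 0x70000000000130000d0000008000000000007000000000d030000200000130000200003130000000001030000000003060000d0000c070000c0000b070000b0000a060000a00009070000900008060000800007070000700006070000600005010000500004040000400002000000300002030000200001000000100000)


end Cfsg.Agent.HeRecog.M8a.SS2ColW
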