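import Cfsg.Agent.CosetCert.Pack

/-! Generated: justifications. -/

set_option autoImplicit false
set_option maxRecDepth 100000

namespace Cfsg.Agent.HeRecog.M8a.SS2ColW

open Cfsg.Agent.CosetCert

def justStore : Store := (.leaf 0x138000460400dc000011000048020306000010400001800005800014000048000100000380000c0000280000800001800020000b7f00000d00003e0400d400001b0000700000300036a00002bd8000040000080000000037a00000002d5002d5002d5002d5002d5002d5002d5002d5002d5002d5002d5002d5002d5002d5002d5002d5002d5002d5002d5002d5002d5002d5002d5002d5002d5002d5002d5002d5002d5002d5002d5002d5002d5002d5002d5002d5002d5002d5002d5002d5002d5002d5002d5002d50028d00245002290011c000d5000780005b0000000000000000000000000000000000000000000000000000000000000000000000)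


end Cfsg.Agent.HeRecog.M8a.SS2ColW
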